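import Groth.Agent.AlgSpLib.FpqcProps
import Groth.Agent.AlgSpLib.FppfBase
import Groth.Agent.AlgSpLib.SepAffine
import Groth.Agent.AlgSpLib.QCompact
import Groth.Agent.AlgSpLib.LocP
import Groth.Agent.AlgSpLib.Space
import Groth.Prelude.Def_AlgSpCov
import Groth.Agent.UnivInjMor.MonoUnram
import Mathlib.AlgebraicGeometry.Morphisms.QuasiFinite
import Mathlib.AlgebraicGeometry.Limits

/-!
Morphisms from finite discrete affine schemes to quasi-separated spaces are affine.
-/

universe u
open CategoryTheory CategoryTheory.Limits AlgebraicGeometry AlgSp Topology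

set_option backward.isDefEq.respectTransparency false

namespace Groth.Agent.ArtAffine

open Groth.Agent.AlgSpLib

variable {S : Scheme.{u}}

theorem isAffine_piece {X : Sp S} (hq : IsQuasiSeparatedSp X) {T O V : Over S} [Finite ↥T.left]
    [DiscreteTopology ↥T.left] [IsAffine O.left] {a : (yon S).obj T ⟶ X} {b : (yon S).obj O ⟶ X}
    (hb : RepWith @Etale b) {p : V ⟶ O} {q : V ⟶ T} (sq : IsPullback ((yon S).map p) ((yon S).map q) b a) :
    IsAffine V.left := by
  have : Etale q.left := (repWith_yon_iff q).1 (repWith_baseChange sq hb)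
  have : LocallyQuasiFinite q.left := UnivInjMor.lqf_of_unramified q.left
  have : DiscreteTopology ↥V.left := by
    rw [← isDiscrete_univ_iff, ← Set.preimage_univ (f := q.left)]
    exact q.left.isDiscrete_preimage (isDiscrete_univ_iff.2 inferInstance)
  have hqc : QuasiCompact (prod.lift p q).left := (repWith_yon_iff _).1 (repWith_lift_of_diag hq sq)
  have hT : QuasiCompact T.hom := ⟨fun U hU hc => (Set.toFinite _).isCompact⟩
  have : CompactSpace ↥(O ⨯ T).left := by
    have : QuasiCompact (pullback.fst O.hom T.hom) := inferInstance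
    have : CompactSpace ↥(pullback O.hom T.hom) := QuasiCompact.compactSpace_of_compactSpace (pullback.fst O.hom T.hom)
    exact (Over.prodLeftIsoPullback O T).inv.homeomorph.compactSpace
  have : CompactSpace ↥V.left := QuasiCompact.compactSpace_of_compactSpace (prod.lift p q).left
  have : Finite ↥V.left := finite_of_compact_of_discrete
  infer_instance

theorem isAffineMor_of_finite_discrete {X : Sp S} (hX : IsAlgSpace X) (hq : IsQuasiSeparatedSp X) {T : Over S}
    [Finite ↥T.left] [DiscreteTopology ↥T.left] (a : (yon S).obj T ⟶ X) : IsAffineMor a := by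
  obtain ⟨U, π, κ, Z, he, hs, hZ, -, hcov⟩ := exists_affine_chart_family hX
  obtain ⟨V, p, q, sq⟩ := exists_pullback hX.diag π a
  have : IsAffineHom p.left := by
    refine isAffineHom_of_forall_exists_isAffineOpen _ fun u => ?_
    obtain ⟨i, hi⟩ := hcov u
    refine ⟨Z i, hi, hZ i, ?_⟩
    let O : Over S := Over.mk ((Z i).ι ≫ U.hom)
    let jO : O ⟶ U := Over.homMk (Z i).ι rfl
    let W : Over S := Over.mk ((p.left ⁻¹ᵁ Z i).ι ≫ V.hom)
    let jW : W ⟶ V := Over.homMk (p.left ⁻¹ᵁ Z i).ι rfl
    let pW : W ⟶ O := Over.homMk (p.left ∣_ Z i) (by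
      show (p.left ∣_ Z i) ≫ (Z i).ι ≫ U.hom = _
      rw [morphismRestrict_ι_assoc, Over.w p]; rfl)
    have sqW : IsPullback ((yon S).map pW) ((yon S).map jW) ((yon S).map jO) ((yon S).map p) :=
      isPullback_yon_iff.2 (isPullback_morphismRestrict p.left (Z i))
    have big := sqW.paste_vert sq
    rw [← Functor.map_comp] at big
    have : IsAffine O.left := hZ i
    have hb : RepWith @Etale ((yon S).map jO ≫ π) :=
      repWith_comp ((repWith_yon_iff jO).2 (show Etale (Z i).ι from inferInstance)) he
    have := isAffine_piece hq hb big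
    exact this
  rw [isAffineMor_iff_repWith]
  refine repWith_of_fppfCover @IsAffineHom (fun _ _ g h => @indQA_of_isAffineHom _ _ g h)
    (Yi := fun _ : PUnit.{u+1} => (yon S).obj U) (g := fun _ => π) hX (fun _ => IsAlgSpace.yon_obj U)
    ⟨fun _ => ⟨(locP_iff_repWith etST_flat hX he.1).2 (repWith_mono (fun _ _ g hg => by
        have : Etale g := hg
        exact (inferInstance : Flat g)) he),
      (locP_iff_repWith etST_lfp hX he.1).2 (repWith_mono (fun _ _ g hg => by
        have : Etale g := hg
        exact (inferInstance : LocallyOfFinitePresentation g)) he)⟩, fun x => ?_⟩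
    a (fun _ => (yon S).obj V) (fun _ => (yon S).map p) (fun _ => (yon S).map q) (fun _ => sq.flip)
    (fun _ => (repWith_yon_iff p).2 this)
  obtain ⟨y, hy⟩ := isSurjectiveMor_of_repWith hs x
  exact ⟨PUnit.unit, y, hy⟩

end Groth.Agent.ArtAffine
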